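import Cfsg.Agent.H265.SuzEven
import Cfsg.Agent.CpAutSuz.Local
import Cfsg.Agent.H573.Spor.Suz
import Cfsg.Agent.FastGrp
import Cfsg.Agent.Prune
set_option linter.all false
prune_inst 0x7f00000000000000000000000000000000000000000000000000000000000000000000000000000000000000000000000000000000000000000000000000000000000000000000000000000000000000003fffffffffffffffffffffffffffbeffbdffffffff
open scoped Cfsg.Agent.FastGrp

/-!
# `Suz`: the orders of the centralizers of the elements of odd prime order (helper265)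

* `cent_three` : an element of order 3 is conjugate to `y0` or `z1`, or its centralizer has order 3240;
* `dvd_three` : `|C(s)|` divides `2 ^ 13 * 76545` for `s` of order 3;
* `dvd_big` : `|C(s)|` divides `2 ^ 13 * m`, `m ≤ 2025`, for `s` of prime order at least 5;
* `exists_A` : a subgroup of order divisible by `3 ^ 7` contains a self-centralizing elementary abelian group.
-/

set_option autoImplicit false
set_option maxRecDepth 100000

namespace Cfsg.Agent.H265.SuzCent

open Subgroup Cfsg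
open Cfsg.Spor (Suz)
open Cfsg.Agent.Lib.PermNet Cfsg.Agent.Lib.PermNetOrbit Cfsg.Agent.SporadicRecognition.SuzPhi
  Cfsg.Agent.SporadicRecognition.SuzBound Cfsg.Agent.SporadicRecognition.SuzOrder
  Cfsg.Agent.SuzThree.Nets Cfsg.Agent.SuzThree.Basic
open Cfsg.Agent.SporRec.SuzCl (Fx card_Fx_conj)
open Cfsg.Agent.CpAutSuz.Fix Cfsg.Agent.CpAutSuz.Gen Cfsg.Agent.CpAutSuz.Classes
open Cfsg.Agent.CpAutSuz.Local (y0_11 y0_13 z1_7 z1_11 z1_13 exists_orderOf)
open Cfsg.Agent.SuzThree.ThreeWr (y0)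
open Cfsg.Agent.SuzThree.CentA (z0)
open Cfsg.Agent.KFacts.SuzLFour (e0)
open Cfsg.Agent.H265.SuzEven (finSuz)

/-! ### Arithmetic -/

theorem drop {n q k e A : ℕ} (hq : q.Prime) (h : n ∣ q ^ e * A) (hn : ¬ q ^ (k + 1) ∣ n) : n ∣ q ^ k * A := by
  obtain ⟨a, b, ha, hb, hab⟩ := exists_dvd_and_dvd_of_dvd_mul h
  obtain ⟨j, -, rfl⟩ := (Nat.dvd_prime_pow hq).1 ha
  have hj : j ≤ k := by
    by_contra hlt
    apply hn
    rw [hab]
    exact (pow_dvd_pow q (by omega)).trans (dvd_mul_right _ _)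
  rw [hab]
  exact mul_dvd_mul (pow_dvd_pow q hj) hb

theorem drop' {n q A : ℕ} (hq : q.Prime) (h : n ∣ q * A) (hn : ¬ q ∣ n) : n ∣ A := by
  have h1 : n ∣ q ^ 0 * A := drop (k := 0) (e := 1) (A := A) hq (by rwa [pow_one]) (by rwa [zero_add, pow_one])
  rwa [pow_zero, one_mul] at h1

theorem card_dvd (s : Suz) : Nat.card (centralizer ({s} : Set Suz)) ∣ 2 ^ 13 * (3 ^ 7 * (5 ^ 2 * (7 * (11 * 13)))) := by
  have h := card_subgroup_dvd_card (centralizer ({s} : Set Suz))
  rw [card_Suz] at h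
  exact h

/-! ### Commuting elements of different prime orders -/

/-- the number of common fixed points -/
theorem inter_mod {v w : Suz} (h : w * v = v * w) {m : ℕ} (hm : m.Prime) (hw : orderOf w = m) :
    ((Fx v).filter fun a => φ w a = a).card ≡ (Fx v).card [MOD m] := by
  have hF : Fact m.Prime := ⟨hm⟩
  have hfin := finSuz
  have hX : ∀ q ∈ zpowers w, ∀ a ∈ Fx v, φ q a ∈ Fx v := by
    rintro q ⟨k, rfl⟩ a ha
    refine φ_fix_of_comm ?_ ha
    have hc : Commute w v := h
    exact (hc.zpow_left k).eq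
  let _ : MulAction (zpowers w) (Fx v) :=
    { smul := fun q a => ⟨φ (q : Suz) a, hX q q.2 a a.2⟩
      one_smul := fun a => Subtype.ext (by show φ (1 : Suz) (a : ℕ) = a; rw [map_one]; rfl)
      mul_smul := fun q r a => Subtype.ext (by
        show φ ((q : Suz) * r) (a : ℕ) = φ (q : Suz) (φ (r : Suz) a)
        rw [φ_mul_apply]) }
  have hp : IsPGroup m (zpowers w) := IsPGroup.of_card (n := 1) (by rw [Nat.card_zpowers, hw, pow_one])
  have h1 := hp.card_modEq_card_fixedPoints (α := Fx v)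
  have h2 : Nat.card (Fx v) = (Fx v).card := by rw [Nat.card_eq_fintype_card, Fintype.card_coe]
  have h3 : Nat.card (MulAction.fixedPoints (zpowers w) (Fx v)) = ((Fx v).filter fun a => φ w a = a).card := by
    have e : (MulAction.fixedPoints (zpowers w) (Fx v)) ≃ ((Fx v).filter fun a => φ w a = a : Finset ℕ) :=
      { toFun := fun a => ⟨(a.1 : ℕ), Finset.mem_filter.2 ⟨a.1.2, by
          have h4 := (MulAction.mem_fixedPoints.1 a.2) ⟨w, mem_zpowers w⟩
          exact congrArg Subtype.val h4⟩⟩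
        invFun := fun a => ⟨⟨a, (Finset.mem_filter.1 a.2).1⟩, by
          rw [MulAction.mem_fixedPoints]
          intro q
          have h4 : (⟨w, mem_zpowers w⟩ : zpowers w) ∈
              MulAction.stabilizer (zpowers w) (⟨a, (Finset.mem_filter.1 a.2).1⟩ : Fx v) := by
            rw [MulAction.mem_stabilizer_iff]
            exact Subtype.ext (Finset.mem_filter.1 a.2).2
          have h5 : (q : zpowers w) ∈ MulAction.stabilizer (zpowers w) (⟨a, (Finset.mem_filter.1 a.2).1⟩ : Fx v) := by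
            obtain ⟨k, hk⟩ := q.2
            have h6 : q = (⟨w, mem_zpowers w⟩ : zpowers w) ^ k := Subtype.ext hk.symm
            rw [h6]
            exact zpow_mem h4 k
          exact MulAction.mem_stabilizer_iff.1 h5⟩
        left_inv := fun a => rfl
        right_inv := fun a => rfl }
    rw [Nat.card_congr e, Nat.card_eq_fintype_card, Fintype.card_coe]
  rw [h2, h3] at h1
  exact h1.symm

theorem inter_comm (v w : Suz) : ((Fx v).filter fun a => φ w a = a) = ((Fx w).filter fun a => φ v a = a) := by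
  ext a
  rw [Finset.mem_filter, Finset.mem_filter, mem_Fx, mem_Fx]
  tauto

theorem card_Fx_eleven {v : Suz} (hv : orderOf v = 11) : (Fx v).card = 0 := by
  rw [Finset.card_eq_zero, Finset.eq_empty_iff_forall_notMem]
  intro a ha
  exact no_fix (l := 11) (by norm_num) hv (mem_Fx.1 ha).1 (mem_Fx.1 ha).2

/-- commuting elements of prime orders -/
theorem false_of_card {v w : Suz} (h : w * v = v * w) {l m a b : ℕ} (hl : l.Prime) (hm : m.Prime) (hv : orderOf v = l)
    (hw : orderOf w = m) (ha : (Fx v).card = a) (hb : (Fx w).card = b)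
    (hn : ∀ j : ℕ, j ≤ a → j ≤ b → j % m = a % m → j % l = b % l → False) : False := by
  have h1 := inter_mod h hm hw
  have h2 := inter_mod h.symm hl hv
  rw [inter_comm w v] at h2
  have h3 := Finset.card_filter_le (Fx v) (fun a => φ w a = a)
  have h4 := Finset.card_filter_le (Fx w) (fun a => φ v a = a)
  rw [inter_comm w v] at h4
  rw [ha] at h1 h3
  rw [hb] at h2 h4
  exact hn _ h3 h4 h1 h2

theorem not_5_7 {v w : Suz} (hv : orderOf v = 5) (hw : orderOf w = 7) (h : w * v = v * w) : False := by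
  rcases CpAutSuz.Five.card_Fx_five hv with h1 | h1
  · refine false_of_card h (by norm_num) (by norm_num) hv hw h1 (card_Fx_seven hw) ?_
    intro j h2 h3 h4 h5
    omega
  · refine false_of_card h (by norm_num) (by norm_num) hv hw h1 (card_Fx_seven hw) ?_
    intro j h2 h3 h4 h5
    omega

theorem not_5_11 {v w : Suz} (hv : orderOf v = 5) (hw : orderOf w = 11) (h : w * v = v * w) : False := by
  rcases CpAutSuz.Five.card_Fx_five hv with h1 | h1
  · refine false_of_card h (by norm_num) (by norm_num) hv hw h1 (card_Fx_eleven hw) ?_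
    intro j h2 h3 h4 h5
    omega
  · refine false_of_card h (by norm_num) (by norm_num) hv hw h1 (card_Fx_eleven hw) ?_
    intro j h2 h3 h4 h5
    omega

theorem not_5_13 {v w : Suz} (hv : orderOf v = 5) (hw : orderOf w = 13) (h : w * v = v * w) : False := by
  rcases CpAutSuz.Five.card_Fx_five hv with h1 | h1
  · refine false_of_card h (by norm_num) (by norm_num) hv hw h1 (card_Fx_thirteen hw) ?_
    intro j h2 h3 h4 h5
    omega
  · refine false_of_card h (by norm_num) (by norm_num) hv hw h1 (card_Fx_thirteen hw) ?_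
    intro j h2 h3 h4 h5
    omega

theorem not_7_11 {v w : Suz} (hv : orderOf v = 7) (hw : orderOf w = 11) (h : w * v = v * w) : False := by
  refine false_of_card h (by norm_num) (by norm_num) hv hw (card_Fx_seven hv) (card_Fx_eleven hw) ?_
  intro j h2 h3 h4 h5
  omega

theorem not_7_13 {v w : Suz} (hv : orderOf v = 7) (hw : orderOf w = 13) (h : w * v = v * w) : False := by
  refine false_of_card h (by norm_num) (by norm_num) hv hw (card_Fx_seven hv) (card_Fx_thirteen hw) ?_
  intro j h2 h3 h4 h5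
  omega

theorem not_11_13 {v w : Suz} (hv : orderOf v = 11) (hw : orderOf w = 13) (h : w * v = v * w) : False := by
  refine false_of_card h (by norm_num) (by norm_num) hv hw (card_Fx_eleven hv) (card_Fx_thirteen hw) ?_
  intro j h2 h3 h4 h5
  omega

/-! ### Order 3 -/

theorem card_conj (g s : Suz) : Nat.card (centralizer ({g * s * g⁻¹} : Set Suz)) = Nat.card (centralizer ({s} : Set Suz)) := by
  have h : (centralizer ({s} : Set Suz)).map (MulAut.conj g).toMonoidHom = centralizer ({g * s * g⁻¹} : Set Suz) := by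
    ext y
    constructor
    · rintro ⟨c, hc, rfl⟩
      have hc' := mem_centralizer_singleton_iff.1 hc
      refine mem_centralizer_singleton_iff.2 ?_
      show g * c * g⁻¹ * (g * s * g⁻¹) = g * s * g⁻¹ * (g * c * g⁻¹)
      calc g * c * g⁻¹ * (g * s * g⁻¹) = g * (c * s) * g⁻¹ := by group
        _ = _ := by rw [hc']; group
    · intro hy
      have hy' := mem_centralizer_singleton_iff.1 hy
      refine ⟨g⁻¹ * y * g, mem_centralizer_singleton_iff.2 ?_, ?_⟩
      · calc g⁻¹ * y * g * s = g⁻¹ * (y * (g * s * g⁻¹)) * g := by group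
          _ = _ := by rw [hy']; group
      · show g * (g⁻¹ * y * g) * g⁻¹ = y
        group
  rw [← h]
  exact card_map_of_injective (MulAut.conj g).injective

/-- **the elements of order 3** -/
theorem cent_three {s : Suz} (hs : orderOf s = 3) :
    (∃ g : Suz, g * s * g⁻¹ = y0) ∨ (∃ g : Suz, g * s * g⁻¹ = z1) ∨ Nat.card (centralizer ({s} : Set Suz)) = 3240 := by
  obtain ⟨u, huu, hu1, hus⟩ := SuzEven.exists_inv (s := s) (by rw [← hs]; exact pow_orderOf_eq_one s)
  have hu : orderOf u = 2 := orderOf_eq_prime (by rw [pow_two]; exact huu) hu1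
  have hconj : ∀ g t : Suz, g * t * g⁻¹ = u → orderOf (g⁻¹ * s * g) = 3 ∧ (g⁻¹ * s * g) * t = t * (g⁻¹ * s * g) := by
    intro g t h
    refine ⟨?_, ?_⟩
    · have h1 := CpAutSuz.Classes.orderOf_conj g⁻¹ s
      rw [inv_inv] at h1
      rw [h1, hs]
    · calc g⁻¹ * s * g * t = g⁻¹ * (s * (g * t * g⁻¹)) * g := by group
        _ = t * (g⁻¹ * s * g) := by rw [h, ← hus, ← h]; group
  rcases exists_conj_inv hu with ⟨g, hg⟩ | ⟨g, hg⟩
  · obtain ⟨h1, h2⟩ := hconj g _ hg
    rcases conj_of_z0 h1 h2 with ⟨c, hc⟩ | ⟨c, hc⟩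
    · refine Or.inl ⟨c * g⁻¹, ?_⟩
      rw [← hc]; group
    · refine Or.inr (Or.inl ⟨c * g⁻¹, ?_⟩)
      rw [← hc]; group
  · obtain ⟨h1, h2⟩ := hconj g _ hg
    right; right
    have h3 := CpAutSuz.ThreeC.card_of_comm h1 h2
    rw [← card_conj g⁻¹ s, inv_inv]
    exact h3

theorem even_three {s : Suz} (hs : s ^ 3 = 1) : Even (Nat.card (centralizer ({s} : Set Suz))) := by
  have hfin := finSuz
  obtain ⟨u, huu, hu1, hus⟩ := SuzEven.exists_inv hs
  have hu : orderOf (⟨u, mem_centralizer_singleton_iff.2 hus⟩ : centralizer ({s} : Set Suz)) = 2 := by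
    rw [Subgroup.orderOf_mk]
    exact orderOf_eq_prime (by rw [pow_two]; exact huu) hu1
  rw [even_iff_two_dvd, ← hu]
  exact orderOf_dvd_natCard _

theorem y0_dvd : Nat.card (centralizer ({y0} : Set Suz)) ∣ 2 ^ 13 * 76545 := by
  have h1 := card_dvd y0
  have h2 := drop' (q := 11) (A := 2 ^ 13 * (3 ^ 7 * (5 ^ 2 * (7 * 13)))) (by norm_num) (h1.trans (by norm_num)) y0_11
  have h3 := drop' (q := 13) (A := 2 ^ 13 * (3 ^ 7 * (5 ^ 2 * 7))) (by norm_num) (h2.trans (by norm_num)) y0_13
  have h4 := drop (q := 5) (k := 1) (e := 2) (A := 2 ^ 13 * (3 ^ 7 * 7)) (by norm_num) (h3.trans (by norm_num))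
    (CpAutSuz.Five.not_25 CpAutSuz.Local.orderOf_y0)
  exact h4.trans (by norm_num)

theorem z1_dvd : Nat.card (centralizer ({z1} : Set Suz)) ∣ 2 ^ 13 * 10935 := by
  have h1 := card_dvd z1
  have h2 := drop' (q := 11) (A := 2 ^ 13 * (3 ^ 7 * (5 ^ 2 * (7 * 13)))) (by norm_num) (h1.trans (by norm_num)) z1_11
  have h3 := drop' (q := 13) (A := 2 ^ 13 * (3 ^ 7 * (5 ^ 2 * 7))) (by norm_num) (h2.trans (by norm_num)) z1_13
  have h4 := drop' (q := 7) (A := 2 ^ 13 * (3 ^ 7 * (5 ^ 2))) (by norm_num) (h3.trans (by norm_num)) z1_7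
  have h5 := drop (q := 5) (k := 1) (e := 2) (A := 2 ^ 13 * (3 ^ 7)) (by norm_num) (h4.trans (by norm_num))
    (CpAutSuz.Five.not_25 CpAutSuz.Local.orderOf_z1)
  exact h5.trans (by norm_num)

/-- **the centralizers of the elements of order 3** -/
theorem dvd_three {s : Suz} (hs : orderOf s = 3) : Nat.card (centralizer ({s} : Set Suz)) ∣ 2 ^ 13 * 76545 := by
  rcases cent_three hs with ⟨g, hg⟩ | ⟨g, hg⟩ | h
  · rw [← card_conj g, hg]
    exact y0_dvd
  · rw [← card_conj g, hg]
    exact z1_dvd.trans (by norm_num)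
  · rw [h]; norm_num

theorem not_dvd_three {l : ℕ} (hl : l = 11 ∨ l = 13) {s : Suz} (hs : orderOf s = 3) :
    ¬ l ∣ Nat.card (centralizer ({s} : Set Suz)) := by
  intro h
  have h1 := h.trans (dvd_three hs)
  rcases hl with rfl | rfl <;> norm_num at h1

/-! ### The larger primes -/

theorem not_dvd_of {v : Suz} {l m : ℕ} (hm : m.Prime) (_hv : orderOf v = l)
    (h : ∀ w : Suz, orderOf w = m → w * v = v * w → False) : ¬ m ∣ Nat.card (centralizer ({v} : Set Suz)) := by
  intro h1
  obtain ⟨w, hw, hc⟩ := exists_orderOf hm h1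
  exact h w hw hc

theorem not_three_pow {v : Suz} {k : ℕ} (h : ∀ Q : Subgroup Suz, IsPGroup 3 Q → (∀ q ∈ Q, q * v = v * q) → Nat.card Q ∣ 3 ^ k) :
    ¬ 3 ^ (k + 1) ∣ Nat.card (centralizer ({v} : Set Suz)) := by
  intro h1
  have hfin := finSuz
  have hF : Fact (Nat.Prime 3) := ⟨Nat.prime_three⟩
  obtain ⟨Q, hQ⟩ := Sylow.exists_subgroup_card_pow_prime 3 h1
  have h2 := h (Q.map (centralizer ({v} : Set Suz)).subtype) ((IsPGroup.of_card hQ).map _) (by
    rintro _ ⟨q, -, rfl⟩
    exact mem_centralizer_singleton_iff.1 q.2)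
  rw [card_map_of_injective (centralizer ({v} : Set Suz)).subtype_injective, hQ] at h2
  have h3 := (Nat.pow_dvd_pow_iff_le_right (by norm_num)).1 h2
  omega

theorem dvd_five {v : Suz} (hv : orderOf v = 5) : Nat.card (centralizer ({v} : Set Suz)) ∣ 2 ^ 13 * 2025 := by
  have h1 := card_dvd v
  have h2 := drop' (q := 11) (A := 2 ^ 13 * (3 ^ 7 * (5 ^ 2 * (7 * 13)))) (by norm_num) (h1.trans (by norm_num))
    (not_dvd_of (by norm_num) hv fun w hw hc => not_5_11 hv hw hc)
  have h3 := drop' (q := 13) (A := 2 ^ 13 * (3 ^ 7 * (5 ^ 2 * 7))) (by norm_num) (h2.trans (by norm_num))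
    (not_dvd_of (by norm_num) hv fun w hw hc => not_5_13 hv hw hc)
  have h4 := drop' (q := 7) (A := 2 ^ 13 * (3 ^ 7 * (5 ^ 2))) (by norm_num) (h3.trans (by norm_num))
    (not_dvd_of (by norm_num) hv fun w hw hc => not_5_7 hv hw hc)
  have h5 := drop (q := 3) (k := 4) (e := 7) (A := 2 ^ 13 * 5 ^ 2) (by norm_num) (h4.trans (by norm_num))
    (not_three_pow fun Q hQ hc => CpAutSuz.Five.card_five hv hQ hc)
  exact h5.trans (by norm_num)

theorem dvd_seven {v : Suz} (hv : orderOf v = 7) : Nat.card (centralizer ({v} : Set Suz)) ∣ 2 ^ 13 * 189 := by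
  have h1 := card_dvd v
  have h2 := drop' (q := 11) (A := 2 ^ 13 * (3 ^ 7 * (5 ^ 2 * (7 * 13)))) (by norm_num) (h1.trans (by norm_num))
    (not_dvd_of (by norm_num) hv fun w hw hc => not_7_11 hv hw hc)
  have h3 := drop' (q := 13) (A := 2 ^ 13 * (3 ^ 7 * (5 ^ 2 * 7))) (by norm_num) (h2.trans (by norm_num))
    (not_dvd_of (by norm_num) hv fun w hw hc => not_7_13 hv hw hc)
  have h4 := drop (q := 5) (k := 0) (e := 2) (A := 2 ^ 13 * (3 ^ 7 * 7)) (by norm_num) (h3.trans (by norm_num))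
    (by rw [zero_add, pow_one]; exact not_dvd_of (by norm_num) hv fun w hw hc => not_5_7 hw hv hc.symm)
  have h5 := drop (q := 3) (k := 3) (e := 7) (A := 2 ^ 13 * 7) (by norm_num) (h4.trans (by norm_num))
    (not_three_pow fun Q hQ hc => CpAutSuz.Five.card_seven hv hQ hc)
  exact h5.trans (by norm_num)

theorem dvd_eleven {v : Suz} (hv : orderOf v = 11) : Nat.card (centralizer ({v} : Set Suz)) ∣ 2 ^ 13 * 11 := by
  have h1 := card_dvd v
  have h3 := drop' (q := 13) (A := 2 ^ 13 * (3 ^ 7 * (5 ^ 2 * (7 * 11)))) (by norm_num) (h1.trans (by norm_num))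
    (not_dvd_of (by norm_num) hv fun w hw hc => not_11_13 hv hw hc)
  have h2 := drop' (q := 7) (A := 2 ^ 13 * (3 ^ 7 * (5 ^ 2 * 11))) (by norm_num) (h3.trans (by norm_num))
    (not_dvd_of (by norm_num) hv fun w hw hc => not_7_11 hw hv hc.symm)
  have h4 := drop (q := 5) (k := 0) (e := 2) (A := 2 ^ 13 * (3 ^ 7 * 11)) (by norm_num) (h2.trans (by norm_num))
    (by rw [zero_add, pow_one]; exact not_dvd_of (by norm_num) hv fun w hw hc => not_5_11 hw hv hc.symm)
  have h5 := drop (q := 3) (k := 0) (e := 7) (A := 2 ^ 13 * 11) (by norm_num) (h4.trans (by norm_num))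
    (by
      rw [zero_add, pow_one]
      refine not_dvd_of (by norm_num) hv fun w hw hc => not_dvd_three (Or.inl rfl) hw ?_
      have hfin := finSuz
      have := orderOf_dvd_natCard (⟨v, mem_centralizer_singleton_iff.2 hc.symm⟩ : centralizer ({w} : Set Suz))
      rwa [Subgroup.orderOf_mk, hv] at this)
  exact h5.trans (by norm_num)

theorem dvd_thirteen {v : Suz} (hv : orderOf v = 13) : Nat.card (centralizer ({v} : Set Suz)) ∣ 2 ^ 13 * 13 := by
  have h1 := card_dvd v
  have h3 := drop' (q := 11) (A := 2 ^ 13 * (3 ^ 7 * (5 ^ 2 * (7 * 13)))) (by norm_num) (h1.trans (by norm_num))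
    (not_dvd_of (by norm_num) hv fun w hw hc => not_11_13 hw hv hc.symm)
  have h2 := drop' (q := 7) (A := 2 ^ 13 * (3 ^ 7 * (5 ^ 2 * 13))) (by norm_num) (h3.trans (by norm_num))
    (not_dvd_of (by norm_num) hv fun w hw hc => not_7_13 hw hv hc.symm)
  have h4 := drop (q := 5) (k := 0) (e := 2) (A := 2 ^ 13 * (3 ^ 7 * 13)) (by norm_num) (h2.trans (by norm_num))
    (by rw [zero_add, pow_one]; exact not_dvd_of (by norm_num) hv fun w hw hc => not_5_13 hw hv hc.symm)
  have h5 := drop (q := 3) (k := 0) (e := 7) (A := 2 ^ 13 * 13) (by norm_num) (h4.trans (by norm_num))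
    (by
      rw [zero_add, pow_one]
      refine not_dvd_of (by norm_num) hv fun w hw hc => not_dvd_three (Or.inr rfl) hw ?_
      have hfin := finSuz
      have := orderOf_dvd_natCard (⟨v, mem_centralizer_singleton_iff.2 hc.symm⟩ : centralizer ({w} : Set Suz))
      rwa [Subgroup.orderOf_mk, hv] at this)
  exact h5.trans (by norm_num)

theorem prime_cases {l : ℕ} (hl : l.Prime) (h : l ∣ 448345497600) : l = 2 ∨ l = 3 ∨ l = 5 ∨ l = 7 ∨ l = 11 ∨ l = 13 := by
  have h2 : (448345497600 : ℕ) = 2 ^ 13 * (3 ^ 7 * (5 ^ 2 * (7 * (11 * 13)))) := by norm_num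
  rw [h2] at h
  have key : ∀ {p k : ℕ}, p.Prime → l ∣ p ^ k → l = p := fun hp h => (Nat.prime_dvd_prime_iff_eq hl hp).1 (hl.dvd_of_dvd_pow h)
  have key' : ∀ {p : ℕ}, p.Prime → l ∣ p → l = p := fun hp h => (Nat.prime_dvd_prime_iff_eq hl hp).1 h
  rcases (Nat.Prime.dvd_mul hl).1 h with h | h
  · exact Or.inl (key Nat.prime_two h)
  rcases (Nat.Prime.dvd_mul hl).1 h with h | h
  · exact Or.inr (Or.inl (key Nat.prime_three h))
  rcases (Nat.Prime.dvd_mul hl).1 h with h | h
  · exact Or.inr (Or.inr (Or.inl (key (by norm_num) h)))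
  rcases (Nat.Prime.dvd_mul hl).1 h with h | h
  · exact Or.inr (Or.inr (Or.inr (Or.inl (key' (by norm_num) h))))
  rcases (Nat.Prime.dvd_mul hl).1 h with h | h
  · exact Or.inr (Or.inr (Or.inr (Or.inr (Or.inl (key' (by norm_num) h)))))
  · exact Or.inr (Or.inr (Or.inr (Or.inr (Or.inr (key' (by norm_num) h)))))

/-- **the centralizers of the elements of prime order at least 5** -/
theorem dvd_big {s : Suz} (hs : (orderOf s).Prime) (h2 : orderOf s ≠ 2) (h3 : orderOf s ≠ 3) :
    ∃ m : ℕ, m ≠ 0 ∧ m ≤ 2025 ∧ Nat.card (centralizer ({s} : Set Suz)) ∣ 2 ^ 13 * m := by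
  have hfin := finSuz
  have h := orderOf_dvd_natCard s
  rw [card_Suz] at h
  rcases prime_cases hs h with h | h | h | h | h | h
  · exact absurd h h2
  · exact absurd h h3
  · exact ⟨2025, by norm_num, le_rfl, dvd_five h⟩
  · exact ⟨189, by norm_num, by norm_num, dvd_seven h⟩
  · exact ⟨11, by norm_num, by norm_num, dvd_eleven h⟩
  · exact ⟨13, by norm_num, by norm_num, dvd_thirteen h⟩

/-! ### Sylow 3-subgroups -/

open Cfsg.Agent.SuzThree.Elementary (A0 cube_A0 E E_mem comm_A0) in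
/-- **a subgroup of order divisible by `3 ^ 7` contains a self-centralizing elementary abelian subgroup** -/
theorem exists_A {F : Subgroup Suz} (hF : 3 ^ 7 ∣ Nat.card F) :
    ∃ A : Subgroup Suz, A ≤ F ∧ (∀ a ∈ A, a ^ 3 = 1) ∧ ∀ c : Suz, (∀ a ∈ A, c * a = a * c) → c ∈ A := by
  have hfin := finSuz
  have h3 : Fact (Nat.Prime 3) := ⟨Nat.prime_three⟩
  obtain ⟨Q, hQ⟩ := Sylow.exists_subgroup_card_pow_prime 3 hF
  set Q' : Subgroup Suz := Q.map F.subtype with hQ'
  have hQ'c : Nat.card Q' = 3 ^ 7 := by rw [hQ', card_map_of_injective F.subtype_injective, hQ]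
  have hQ'p : IsPGroup 3 Q' := IsPGroup.of_card hQ'c
  have hidx : ¬ 3 ∣ Q'.relIndex ⊤ := by
    rw [relIndex_top_right]
    intro h
    have h1 := Q'.card_mul_index
    rw [card_Suz, hQ'c] at h1
    have h2 : 3 ^ 7 * 3 ∣ 448345497600 := by
      rw [← h1]; exact mul_dvd_mul_left _ h
    norm_num at h2
  obtain ⟨P, hP, -, hA, -⟩ := SuzThree.SylowThree.exists_P
  obtain ⟨c, -, hc⟩ := Cfsg.Agent.SuzThree.GoodX.exists_conj_le (C := ⊤) (S := Q') (X := P) le_top hQ'p hP hidx
  refine ⟨A0.map (MulAut.conj c).toMonoidHom, ?_, ?_, ?_⟩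
  · refine ((Subgroup.map_mono hA).trans hc).trans ?_
    rintro _ ⟨q, -, rfl⟩
    exact q.2
  · rintro _ ⟨a, ha, rfl⟩
    rw [← map_pow, cube_A0 ha, map_one]
  · intro g hg
    refine ⟨c⁻¹ * g * c, ?_, ?_⟩
    · apply SuzThree.Kernel.mem_of_centralizes
      intro v
      have h1 := hg (c * E v * c⁻¹) ⟨E v, E_mem v, rfl⟩
      calc c⁻¹ * g * c * E v = c⁻¹ * (g * (c * E v * c⁻¹)) * c := by group
        _ = E v * (c⁻¹ * g * c) := by rw [h1]; group
    · show c * (c⁻¹ * g * c) * c⁻¹ = g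
      group

end Cfsg.Agent.H265.SuzCent
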